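import Cfsg.Agent.ClassicalGeometry.PSL2Solvable
import Cfsg.Agent.S2475
import Cfsg.Agent.Prune
set_option linter.all false

section
prune_inst 0x7f00000000000000000000000000000000000000000000000000000000000000000000000000000000000000000000000000000000000000000000000000000000000000000000000000000000000000003fffffffffffffffffffffffffffbeffbdffffffff

-- part: H500/PslUnip
section
set_option linter.all false
open scoped Cfsg.Agent.FastGrp

/-!
# The elementary abelian subgroup of order `q` of `PSL₂(q)`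
-/

set_option autoImplicit false

namespace Cfsg.Agent.H500

open Subgroup Cfsg.Agent.LieClassical.SLTwoUnipotent Cfsg.Agent.ClassicalGeometry.PSL2Basic

/-- `PSL₂(q)` has a subgroup of order `q` and exponent `p`. -/
theorem exists_unip (F : Type*) [Field F] [Fintype F] (p : ℕ) [hp : Fact p.Prime] [CharP F p] :
    ∃ U : Subgroup (Matrix.ProjectiveSpecialLinearGroup (Fin 2) F),
      Nat.card U = Fintype.card F ∧ ∀ x ∈ U, x ^ p = 1 := by
  let φ : Multiplicative F →* Matrix.ProjectiveSpecialLinearGroup (Fin 2) F :=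
    { toFun := fun x => QuotientGroup.mk' (Subgroup.center (Matrix.SpecialLinearGroup (Fin 2) F)) (u x.toAdd)
      map_one' := by rw [toAdd_one, u_zero, map_one]
      map_mul' := fun x y => by rw [toAdd_mul, u_add, map_mul] }
  have hinj : Function.Injective φ := by
    rw [injective_iff_map_eq_one]
    intro x hx
    have h1 : u x.toAdd ∈ Subgroup.center (Matrix.SpecialLinearGroup (Fin 2) F) :=
      (QuotientGroup.eq_one_iff _).mp hx
    have h2 : x.toAdd = 0 := by
      rcases mem_center_SL2_iff.mp h1 with h | h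
      · have := congrArg (fun g : Matrix.SpecialLinearGroup (Fin 2) F => g 0 1) h
        simpa [coe_u] using this
      · have := congrArg (fun g : Matrix.SpecialLinearGroup (Fin 2) F => g 0 1) h
        simpa [coe_u] using this
    exact toAdd_eq_zero.mp h2
  refine ⟨φ.range, ?_, ?_⟩
  · rw [← Nat.card_congr (MonoidHom.ofInjective hinj).toEquiv, Nat.card_eq_fintype_card, Fintype.card_multiplicative]
  · rintro _ ⟨x, rfl⟩
    rw [← map_pow]
    have : x ^ p = 1 := by
      rw [← toAdd_eq_zero, toAdd_pow, nsmul_eq_mul, CharP.cast_eq_zero, zero_mul]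
    rw [this, map_one]

end Cfsg.Agent.H500
end

-- part: H421/Rec/PslFrob
section
set_option linter.all false
open scoped Cfsg.Agent.FastGrp

/-!
# The Frobenius subgroups of the Borel subgroup of `PSL_2(F)` (helper421)
-/

set_option autoImplicit false

namespace Cfsg.Agent.H421.PslFrob

open Subgroup Matrix Cfsg.Agent.LieClassical Cfsg.Agent.LieClassical.SLTwoUnipotent Cfsg.Agent.ClassicalGeometry.PSL2Basic

section

variable {F : Type*} [Field F]

/-- the diagonal element -/
def d (t : Fˣ) : SpecialLinearGroup (Fin 2) F := ⟨!![(t : F), 0; 0, ((t⁻¹ : Fˣ) : F)], by simp⟩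

theorem d_mul (s t : Fˣ) : d (s * t) = d s * d t := by
  apply ext_coe
  rw [SLTwoUnipotent.coe_mul]
  show !![((s * t : Fˣ) : F), 0; 0, (((s * t)⁻¹ : Fˣ) : F)] = !![(s : F), 0; 0, ((s⁻¹ : Fˣ) : F)] *
    !![(t : F), 0; 0, ((t⁻¹ : Fˣ) : F)]
  simp [mul_comm]

theorem d_one : d (1 : Fˣ) = 1 := by
  apply ext_coe
  show !![((1 : Fˣ) : F), 0; 0, (((1 : Fˣ)⁻¹ : Fˣ) : F)] = ((1 : SpecialLinearGroup (Fin 2) F) : Matrix (Fin 2) (Fin 2) F)
  rw [SLTwoUnipotent.coe_one]
  simp

theorem d_u (t : Fˣ) (x : F) : d t * u x = u ((t : F) ^ 2 * x) * d t := by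
  apply ext_coe
  rw [SLTwoUnipotent.coe_mul, SLTwoUnipotent.coe_mul]
  show !![(t : F), 0; 0, ((t⁻¹ : Fˣ) : F)] * !![1, x; 0, 1] = !![1, (t : F) ^ 2 * x; 0, 1] *
    !![(t : F), 0; 0, ((t⁻¹ : Fˣ) : F)]
  have ht : (t : F) ≠ 0 := t.ne_zero
  ext i j
  fin_cases i <;> fin_cases j <;> simp
  field_simp

/-- the diagonal homomorphism -/
def dh : Fˣ →* SpecialLinearGroup (Fin 2) F where
  toFun := d
  map_one' := d_one
  map_mul' := d_mul

/-- the unipotent homomorphism -/
def uh (F : Type*) [Field F] : Multiplicative F →* ProjectiveSpecialLinearGroup (Fin 2) F :=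
  { toFun := fun x => QuotientGroup.mk' (Subgroup.center (SpecialLinearGroup (Fin 2) F)) (u x.toAdd)
    map_one' := by rw [toAdd_one, u_zero, map_one]
    map_mul' := fun x y => by rw [toAdd_mul, u_add, map_mul] }

theorem uh_apply (x : F) : uh F (Multiplicative.ofAdd x) =
    QuotientGroup.mk' (Subgroup.center (SpecialLinearGroup (Fin 2) F)) (u x) := rfl

theorem uh_inj : Function.Injective (uh F) := by
  rw [injective_iff_map_eq_one]
  intro x hx
  have h1 : u x.toAdd ∈ Subgroup.center (Matrix.SpecialLinearGroup (Fin 2) F) :=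
    (QuotientGroup.eq_one_iff _).mp hx
  have h2 : x.toAdd = 0 := by
    rcases mem_center_SL2_iff.mp h1 with h | h
    · have := congrArg (fun g : Matrix.SpecialLinearGroup (Fin 2) F => g 0 1) h
      simpa [coe_u] using this
    · have := congrArg (fun g : Matrix.SpecialLinearGroup (Fin 2) F => g 0 1) h
      simpa [coe_u] using this
  exact toAdd_eq_zero.mp h2

/-- **Frobenius subgroups of `PSL_2(F)`.** -/
theorem exists_frob [Fintype F] {v s : ℕ} [Fact v.Prime] [CharP F v] (hs : s.Prime) (hs2 : s ≠ 2)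
    (hd : s ∣ Fintype.card F - 1) :
    ∃ (U : Subgroup (ProjectiveSpecialLinearGroup (Fin 2) F)) (c : ProjectiveSpecialLinearGroup (Fin 2) F), IsPGroup v U ∧ (∀ a ∈ U, ∀ b ∈ U, a * b = b * a) ∧ orderOf c = s ∧
      (∀ g ∈ U, c * g * c⁻¹ ∈ U) ∧ ∃ g ∈ U, c * g ≠ g * c := by
  classical
  have hfs : Fact s.Prime := ⟨hs⟩
  have hcard : s ∣ Nat.card Fˣ := by
    rw [Nat.card_eq_fintype_card, Fintype.card_units]; exact hd
  obtain ⟨t, ht⟩ := exists_prime_orderOf_dvd_card' s hcard
  have hts : t ^ s = 1 := by rw [← ht, pow_orderOf_eq_one]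
  have ht2 : (t : F) ^ 2 ≠ 1 := by
    intro h
    have h1 : t ^ 2 = 1 := Units.ext (by rw [Units.val_pow_eq_pow_val, h, Units.val_one])
    have h2 : s ∣ 2 := by rw [← ht]; exact orderOf_dvd_of_pow_eq_one h1
    exact hs2 ((Nat.prime_dvd_prime_iff_eq hs Nat.prime_two).1 h2)
  set π := QuotientGroup.mk' (Subgroup.center (SpecialLinearGroup (Fin 2) F)) with hπ
  have hconj : ∀ x : F, π (d t) * uh F (Multiplicative.ofAdd x) = uh F (Multiplicative.ofAdd ((t : F) ^ 2 * x)) * π (d t) := by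
    intro x
    rw [uh_apply, uh_apply, hπ, ← map_mul, ← map_mul, d_u]
  have hc1 : π (d t) ≠ 1 := by
    intro h
    have h1 := hconj 1
    rw [h, one_mul, mul_one] at h1
    have h2 := uh_inj h1
    have h3 : (1 : F) = (t : F) ^ 2 * 1 := congrArg Multiplicative.toAdd h2
    rw [mul_one] at h3
    exact ht2 h3.symm
  refine ⟨(uh F).range, π (d t), ?_, ?_, ?_, ?_, ?_⟩
  · rintro ⟨_, x, rfl⟩
    refine ⟨1, Subtype.ext ?_⟩
    show uh F x ^ v ^ 1 = 1
    rw [pow_one, ← map_pow]
    have : x ^ v = 1 := by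
      rw [← toAdd_eq_zero, toAdd_pow, nsmul_eq_mul, CharP.cast_eq_zero, zero_mul]
    rw [this, map_one]
  · rintro _ ⟨x, rfl⟩ _ ⟨y, rfl⟩
    rw [← map_mul, ← map_mul, mul_comm]
  · refine orderOf_eq_prime ?_ hc1
    rw [← map_pow]
    have : d t ^ s = 1 := by
      show dh t ^ s = 1
      rw [← map_pow, hts, map_one]
    rw [this, map_one]
  · rintro _ ⟨x, rfl⟩
    refine ⟨Multiplicative.ofAdd ((t : F) ^ 2 * x.toAdd), ?_⟩
    rw [eq_mul_inv_iff_mul_eq]
    exact (hconj x.toAdd).symm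
  · refine ⟨uh F (Multiplicative.ofAdd 1), ⟨_, rfl⟩, ?_⟩
    rw [hconj]
    intro h
    have h1 := uh_inj (mul_right_cancel h)
    have h2 : (t : F) ^ 2 * 1 = 1 := congrArg Multiplicative.toAdd h1
    rw [mul_one] at h2
    exact ht2 h2

/-- the orders of the elements, odd characteristic -/
theorem orders [Fintype F] {v : ℕ} [Fact v.Prime] [CharP F v] (h4 : 4 ≤ Fintype.card F) (hv : v ≠ 2) {S : Type*} [Group S]
    (e : S ≃* ProjectiveSpecialLinearGroup (Fin 2) F) : ∃ w : ℕ, Fintype.card F = 2 * w + 1 ∧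
      ∀ m : ℕ, (∃ x : S, orderOf x = m) ↔ (m ∣ v ∨ m ∣ w ∨ m ∣ w + 1) := by
  have hrc : ringChar F ≠ 2 := by
    intro h
    exact hv ((ringChar.eq_iff.1 h).eq F ‹CharP F v›).symm
  obtain ⟨w, hw⟩ : Odd (Fintype.card F) := Nat.odd_iff.2 (FiniteField.odd_card_of_char_ne_two hrc)
  refine ⟨w, hw, fun m => ?_⟩
  have hg : Nat.gcd 2 (Fintype.card F - 1) = 2 := by
    rw [hw, Nat.add_sub_cancel]
    exact Nat.gcd_eq_left (Dvd.intro _ rfl)
  have h1 := Cfsg.Agent.S2475.result (F := F) v h4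
  rw [hg, hw, Nat.add_sub_cancel, Nat.mul_div_cancel_left _ (by norm_num),
    show 2 * w + 1 + 1 = 2 * (w + 1) by ring, Nat.mul_div_cancel_left _ (by norm_num)] at h1
  have h2 : (∃ x : S, orderOf x = m) ↔
      m ∈ Set.range (orderOf : Matrix.ProjectiveSpecialLinearGroup (Fin 2) F → ℕ) := by
    constructor
    · rintro ⟨g, rfl⟩
      exact ⟨e g, MulEquiv.orderOf_eq e g⟩
    · rintro ⟨g, rfl⟩
      exact ⟨e.symm g, MulEquiv.orderOf_eq e.symm g⟩
  rw [h2, h1]
  exact Iff.rfl

end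

end Cfsg.Agent.H421.PslFrob
end
end
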